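import Cfsg.Agent.H415.TU.Def
import Cfsg.Agent.KFacts.TwF4.SylU

/-!
# The interface `RDat` for a group of type `²F₄` with coordinates `Full σ G` (helper729)
-/

set_option autoImplicit false
set_option linter.unusedSectionVars false

namespace Cfsg.Agent.H729.TU

open Cfsg.Agent.KFacts.TwF4 Cfsg.Agent.SplitTwo Cfsg.Agent.SplitTwo.ZS Cfsg.Agent.TitsThree.RankTwoZ
open Cfsg.Agent.H415.TU

universe u

section abs

variable {F : Type*} [Field F] {σ : F →+* F} {G : Type u} [Group G] (S : Full σ G)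

/-- the torus -/
theorem mem_T_of {t : G} (h : ∀ k : ℤ, ∀ x ∈ S.XZ k, t * x * t⁻¹ ∈ S.XZ k)
    (h' : ∀ k : ℤ, ∀ x ∈ S.XZ k, t⁻¹ * x * t ∈ S.XZ k) : t ∈ S.T := by
  intro k x
  have hk : (((k.val : ℕ) : ℤ) : ZMod (2 * 8)) = k := by rw [Int.cast_natCast]; exact ZMod.natCast_zmod_val _
  have hX : S.XZ (k.val : ℤ) = S.R.X k := by show S.R.X _ = _; rw [hk]
  have k1 := h (k.val : ℤ)
  have k2 := h' (k.val : ℤ)
  rw [hX] at k1 k2
  refine ⟨fun hx => ?_, fun hx => k1 x hx⟩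
  have h3 := k2 _ hx
  have e1 : t⁻¹ * (t * x * t⁻¹) * t = x := by group
  rwa [e1] at h3

/-- two elements with the same action on the root groups -/
theorem refl_T {c c' : ℤ} {n n' : G} (hc : c' = c ∨ c' = c + 16) (h : Refl S.XZ c n) (h' : Refl S.XZ c' n') :
    n * n'⁻¹ ∈ S.T := by
  have hX : ∀ k : ℤ, S.XZ (k + 16) = S.XZ k := fun k => S.zsys8.per k
  have e : ∀ k : ℤ, S.XZ (c' - k) = S.XZ (c - k) := by
    intro k
    rcases hc with rfl | rfl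
    · rfl
    · rw [show c + 16 - k = (c - k) + 16 by ring, hX]
  apply mem_T_of
  · intro k x hx
    have h1 : n'⁻¹ * x * n' ∈ S.XZ (c' - k) := h'.mem_inv hx rfl
    rw [e] at h1
    have h2 := h.mem h1
    rw [sub_sub_cancel] at h2
    have e1 : n * (n'⁻¹ * x * n') * n⁻¹ = n * n'⁻¹ * x * (n * n'⁻¹)⁻¹ := by group
    rwa [e1] at h2
  · intro k x hx
    have h1 : n⁻¹ * x * n ∈ S.XZ (c - k) := h.mem_inv hx rfl
    rw [← e] at h1
    have h2 := h'.mem h1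
    rw [sub_sub_cancel] at h2
    have e1 : n' * (n⁻¹ * x * n) * n'⁻¹ = (n * n'⁻¹)⁻¹ * x * (n * n'⁻¹) := by group
    rwa [e1] at h2

/-- the reflections normalise the torus -/
theorem refl_conj_T {c : ℤ} {n t : G} (h : Refl S.XZ c n) (ht : t ∈ S.T) : n * t * n⁻¹ ∈ S.T := by
  apply mem_T_of
  · intro k x hx
    have h1 := h.mem_inv hx (k := c - k) rfl
    have h2 := h.mem (S.T_conj ht _ h1)
    rw [sub_sub_cancel] at h2
    have e1 : n * (t * (n⁻¹ * x * n) * t⁻¹) * n⁻¹ = (n * t * n⁻¹) * x * (n * t * n⁻¹)⁻¹ := by group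
    rwa [e1] at h2
  · intro k x hx
    have h1 := h.mem_inv hx (k := c - k) rfl
    have h2 := h.mem (S.T_conj' ht _ h1)
    rw [sub_sub_cancel] at h2
    have e1 : n * (t⁻¹ * (n⁻¹ * x * n) * t) * n⁻¹ = (n * t * n⁻¹)⁻¹ * x * (n * t * n⁻¹) := by group
    rwa [e1] at h2

/-- conjugation by `n1` on the torus -/
theorem n1_h (c d : Fˣ) : S.n1 * S.h c d * S.n1⁻¹ = S.h d⁻¹ c⁻¹ := by
  have hT : S.n1 * S.h c d * S.n1⁻¹ ∈ S.T := refl_conj_T S S.n1_refl (S.mem_T.2 ⟨c, d, rfl⟩)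
  obtain ⟨c2, d2, e1⟩ := S.mem_T.1 hT
  have key : ∀ a : ZMod 8, (chE σ a c2 d2 : F) = chE σ (5 - a) c d := by
    intro a
    have h1 := S.h_e c2 d2 a 1 0
    have h2 : S.n1⁻¹ * S.e a 1 0 * S.n1 = S.e (5 - a) 1 0 := by
      have := S.n1_e (5 - a) 1 0
      rw [sub_sub_cancel] at this
      rw [← this]; group
    have h3 : (S.n1 * S.h c d * S.n1⁻¹) * S.e a 1 0 * (S.n1 * S.h c d * S.n1⁻¹)⁻¹ =
        S.e a ((chE σ (5 - a) c d : F) * 1) 0 := by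
      have e2 : (S.n1 * S.h c d * S.n1⁻¹) * S.e a 1 0 * (S.n1 * S.h c d * S.n1⁻¹)⁻¹ =
          S.n1 * (S.h c d * (S.n1⁻¹ * S.e a 1 0 * S.n1) * (S.h c d)⁻¹) * S.n1⁻¹ := by group
      rw [e2, h2, S.h_e, S.n1_e, sub_sub_cancel, mul_zero]
    rw [e1, h3, mul_zero] at h1
    have h4 := (S.injE a _ _ _ _ h1).1
    rw [mul_one, mul_one] at h4
    exact h4.symm
  have k0 : c2 = d⁻¹ := Units.ext (key 0)
  have k1 : d2 = c⁻¹ := Units.ext (key 1)
  rw [← e1, k0, k1]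

/-- rank one relations, type `A₁` -/
theorem rel0 {u : G} (hu : u ∈ S.XZ 1) (h1 : u ≠ 1) :
    ∃ y ∈ S.XZ 9, ∃ c : Fˣ, ∃ x ∈ S.XZ 1, u * S.n1 = y * S.h c c * x := by
  obtain ⟨v, hv, v', hv', hr⟩ := S.zsys8.mu 1 u hu h1
  have h9 : S.XZ (1 - 8) = S.XZ 9 := by
    have := S.zsys8.per' 9
    rw [← this]
    norm_num
  rw [h9] at hv hv'
  have hT : (v * u * v') * S.n1⁻¹ ∈ S.T := refl_T S (Or.inr (by norm_num)) hr S.n1_refl
  obtain ⟨c, d, ht⟩ := S.mem_T.1 hT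
  -- `t` centralises `X_5`
  have hc9 : ∀ y ∈ S.XZ 9, y * S.o 2 1 = S.o 2 1 * y := by
    intro y hy
    obtain ⟨s, rfl⟩ := (S.mem_XZ_odd 4 y).1 hy
    have := S.o_o2 2 1 s
    exact this.symm
  have hc1 : ∀ y ∈ S.XZ 1, y * S.o 2 1 = S.o 2 1 * y := by
    intro y hy
    obtain ⟨s, rfl⟩ := (S.mem_XZ_odd 0 y).1 hy
    have := S.o_o2 0 s 1
    simpa using this
  have hmem1 : ∀ s, S.o 0 s ∈ S.XZ 1 := fun s => by
    have := S.o_mem 0 s
    simpa using this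
  have hmem9 : ∀ s, S.o 4 s ∈ S.XZ 9 := fun s => by
    have := S.o_mem 4 s
    exact this
  have hZ : ∀ y, (y ∈ S.XZ 9 ∨ y ∈ S.XZ 1) → y ∈ Subgroup.centralizer {S.o 2 1} := by
    rintro y (hy | hy)
    · exact Subgroup.mem_centralizer_singleton_iff.2 (hc9 y hy)
    · exact Subgroup.mem_centralizer_singleton_iff.2 (hc1 y hy)
  have hn1 : S.n1 ∈ Subgroup.centralizer {S.o 2 1} := by
    rw [S.n1_word]
    exact mul_mem (mul_mem (hZ _ (Or.inr (hmem1 _))) (hZ _ (Or.inl (hmem9 _)))) (hZ _ (Or.inr (hmem1 _)))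
  have htc : S.h c d ∈ Subgroup.centralizer {S.o 2 1} := by
    rw [ht]
    exact mul_mem (mul_mem (mul_mem (hZ _ (Or.inl hv)) (hZ _ (Or.inr hu))) (hZ _ (Or.inl hv'))) (inv_mem hn1)
  have h2 := S.h_o c d 2 1
  rw [Subgroup.mem_centralizer_singleton_iff.1 htc, mul_inv_cancel_right, mul_one] at h2
  have h3 : (1 : F) = chO σ 2 c d := S.injO 2 h2
  have h4 : chO σ 2 c d = 1 := (Units.ext h3).symm
  have hdc : d / c = 1 := by
    apply S.unit_eq_one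
    rw [← h4]
    show d / c * Units.map (σ : F →* F) (d / c) =
      (Units.map (σ : F →* F) d / c) * (d / Units.map (σ : F →* F) c)
    rw [map_div, div_mul_div_comm, div_mul_div_comm, mul_comm d]
  have hdc' : d = c := div_eq_one.1 hdc
  subst hdc'
  refine ⟨v⁻¹, inv_mem hv, d, S.n1 * v'⁻¹ * S.n1⁻¹, ?_, ?_⟩
  · have h5 := S.n1_refl.mem (inv_mem hv')
    exact h5
  · have hi : S.n1⁻¹ = S.n1 := inv_eq_of_mul_eq_one_left S.n1_sq
    rw [ht]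
    calc u * S.n1 = v⁻¹ * (v * u * v') * v'⁻¹ * S.n1 := by group
      _ = v⁻¹ * (v * u * v') * v'⁻¹ * S.n1⁻¹ := by rw [hi]
      _ = _ := by group

/-- rank one relations, type `²B₂` -/
theorem rel1 {u : G} (hu : u ∈ S.XZ 8) (h1 : u ≠ 1) :
    ∃ y ∈ S.XZ 16, ∃ d : Fˣ, ∃ x ∈ S.XZ 8, u * S.n2 = y * S.h (Units.map (σ : F →* F) d) d * x := by
  obtain ⟨v, hv, v', hv', hr⟩ := S.zsys8.mu 8 u hu h1
  have h0 : S.XZ (8 - 8) = S.XZ 0 := by norm_num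
  have h16 : S.XZ 16 = S.XZ 0 := by
    have := S.zsys8.per 0
    rw [← this]
    norm_num
  rw [h0] at hv hv'
  have hT : (v * u * v') * S.n2⁻¹ ∈ S.T := refl_T S (Or.inl (by norm_num)) hr S.n2_refl
  obtain ⟨c, d, ht⟩ := S.mem_T.1 hT
  have hPL : S.h c d ∈ S.PL := by
    rw [ht]
    exact mul_mem (mul_mem (mul_mem (mem_J hv le_rfl (by norm_num)) (mem_J hu (by norm_num) le_rfl))
      (mem_J hv' le_rfl (by norm_num))) (inv_mem S.n2_mem)
  have h2 := S.h_e c d 2 0 1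
  rw [S.comm_PL hPL (S.mem_Zc.2 ⟨1, rfl⟩), mul_inv_cancel_right, mul_one, mul_zero] at h2
  have h3 := (S.injE 2 _ _ _ _ h2).2
  have h4 : chE σ 2 c d = 1 := S.unit_eq_one (Units.ext h3.symm)
  have hcd : c = Units.map (σ : F →* F) d := by
    rw [chE_two, div_eq_one] at h4
    exact h4.symm
  subst hcd
  refine ⟨v⁻¹, by rw [h16]; exact inv_mem hv, d, S.n2 * v'⁻¹ * S.n2⁻¹, ?_, ?_⟩
  · have h5 := S.n2_refl.mem (inv_mem hv')
    exact h5
  · have hi : S.n2⁻¹ = S.n2 := inv_eq_of_mul_eq_one_left S.n2_sq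
    rw [ht]
    calc u * S.n2 = v⁻¹ * (v * u * v') * v'⁻¹ * S.n2 := by group
      _ = v⁻¹ * (v * u * v') * v'⁻¹ * S.n2⁻¹ := by rw [hi]
      _ = _ := by group

/-- `G` is generated by `X_9, …, X_16`, `n1`, `n2` -/
theorem gen_top {K : Subgroup G} (hU : J S.XZ 9 16 ≤ K) (h1 : S.n1 ∈ K) (h2 : S.n2 ∈ K) : K = ⊤ := by
  have r1 : ∀ k : ℤ, S.XZ (10 - k) ≤ K → S.XZ k ≤ K := by
    intro k hk x hx
    have h3 := hk (S.n1_refl.mem hx)
    have e1 : x = S.n1⁻¹ * (S.n1 * x * S.n1⁻¹) * S.n1 := by group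
    rw [e1]
    exact mul_mem (mul_mem (inv_mem h1) h3) h1
  have r2 : ∀ k : ℤ, S.XZ (8 - k) ≤ K → S.XZ k ≤ K := by
    intro k hk x hx
    have h3 := hk (S.n2_refl.mem hx)
    have e1 : x = S.n2⁻¹ * (S.n2 * x * S.n2⁻¹) * S.n2 := by group
    rw [e1]
    exact mul_mem (mul_mem (inv_mem h2) h3) h2
  have hk : ∀ k : ℤ, 9 ≤ k → k ≤ 16 → S.XZ k ≤ K := fun k h3 h4 => (X_le_J h3 h4).trans hU
  have h16 : S.XZ 16 = S.XZ 0 := by
    have := S.zsys8.per 0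
    rw [← this]
    norm_num
  have k1 : S.XZ 1 ≤ K := r1 1 (hk 9 (by norm_num) (by norm_num))
  have k7 : S.XZ 7 ≤ K := r2 7 k1
  have k3 : S.XZ 3 ≤ K := r1 3 k7
  have k5 : S.XZ 5 ≤ K := r2 5 k3
  have k0 : S.XZ 0 ≤ K := by rw [← h16]; exact hk 16 (by norm_num) (by norm_num)
  have k8 : S.XZ 8 ≤ K := r2 8 k0
  have k2 : S.XZ 2 ≤ K := r1 2 k8
  have k6 : S.XZ 6 ≤ K := r2 6 k2
  have k4 : S.XZ 4 ≤ K := r1 4 k6
  rw [eq_top_iff, ← S.R.gen]
  refine iSup_le fun i => ?_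
  have hi : (((i.val : ℕ) : ℤ) : ZMod (2 * 8)) = i := by rw [Int.cast_natCast]; exact ZMod.natCast_zmod_val _
  have hX : S.XZ (i.val : ℤ) = S.R.X i := by show S.R.X _ = _; rw [hi]
  rw [← hX]
  have hlt : (i.val : ℤ) < 16 := by exact_mod_cast ZMod.val_lt i
  have h0 : (0 : ℤ) ≤ i.val := Int.natCast_nonneg _
  rcases lt_or_ge (i.val : ℤ) 9 with h | h
  · generalize (i.val : ℤ) = j at *
    interval_cases j <;> assumption
  · exact hk _ h hlt.le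

/-! ### the braid relation -/

section braid

variable [Finite G] {k W : Type*} [Field k] [AddCommGroup W] [Module k W] (ρ : G →* Module.End k W)

/-- the sum of the elements of a subgroup -/
noncomputable def sg (A : Subgroup G) : Module.End k W := ∑ u ∈ (Set.toFinite (A : Set G)).toFinset, ρ u

theorem sg_mul {A B C : Subgroup G} (hA : A ≤ C) (hB : B ≤ C) (hC : ∀ g ∈ C, ∃ a ∈ A, ∃ b ∈ B, g = a * b)
    (h1 : ∀ x ∈ A, x ∈ B → x = 1) : sg ρ A * sg ρ B = sg ρ C := by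
  classical
  unfold sg
  rw [Finset.sum_mul_sum, ← Finset.sum_product']
  refine Finset.sum_bij (fun p _ => p.1 * p.2) ?_ ?_ ?_ ?_
  · rintro ⟨a, b⟩ hp
    simp only [Finset.mem_product, Set.Finite.mem_toFinset, SetLike.mem_coe] at hp ⊢
    exact mul_mem (hA hp.1) (hB hp.2)
  · rintro ⟨a, b⟩ hp ⟨a', b'⟩ hp' h
    simp only [Finset.mem_product, Set.Finite.mem_toFinset, SetLike.mem_coe] at hp hp' h
    have h2 : a'⁻¹ * a = b' * b⁻¹ := by
      rw [inv_mul_eq_iff_eq_mul, ← mul_assoc, ← h, mul_inv_cancel_right]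
    have h3 : a'⁻¹ * a = 1 := h1 _ (mul_mem (inv_mem hp'.1) hp.1) (by
      rw [h2]
      exact mul_mem hp'.2 (inv_mem hp.2))
    have h4 : a = a' := by rw [inv_mul_eq_one] at h3; exact h3.symm
    subst h4
    rw [mul_left_cancel h]
  · intro g hg
    rw [Set.Finite.mem_toFinset] at hg
    obtain ⟨a, ha, b, hb, e⟩ := hC g hg
    exact ⟨(a, b), by
      simp only [Finset.mem_product, Set.Finite.mem_toFinset, SetLike.mem_coe]
      exact ⟨ha, hb⟩, e.symm⟩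
  · rintro ⟨a, b⟩ -
    exact (map_mul ρ a b).symm

theorem sg_conj (n : G) {A B : Subgroup G} (h : ∀ x, x ∈ A ↔ n * x * n⁻¹ ∈ B) : ρ n * sg ρ A = sg ρ B * ρ n := by
  classical
  unfold sg
  rw [Finset.mul_sum, Finset.sum_mul]
  refine Finset.sum_bij (fun x _ => n * x * n⁻¹) ?_ ?_ ?_ ?_
  · intro x hx
    rw [Set.Finite.mem_toFinset] at hx ⊢
    exact (h x).1 hx
  · intro x _ y _ hxy
    exact mul_left_cancel (mul_right_cancel hxy)
  · intro y hy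
    rw [Set.Finite.mem_toFinset] at hy
    refine ⟨n⁻¹ * y * n, ?_, by group⟩
    rw [Set.Finite.mem_toFinset]
    refine (h _).2 ?_
    have e1 : n * (n⁻¹ * y * n) * n⁻¹ = y := by group
    rw [e1]
    exact hy
  · intro x _
    rw [← map_mul, ← map_mul]
    congr 1
    group

theorem refl_J {c : ℤ} {n : G} (h : Refl S.XZ c n) {a b : ℤ} (x : G) :
    x ∈ J S.XZ a b ↔ n * x * n⁻¹ ∈ J S.XZ (c - b) (c - a) := by
  refine ⟨fun hx => h.mem_J hx le_rfl le_rfl, fun hx => ?_⟩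
  have h1 := h.mem_J_inv hx (a' := a) (b' := b) (by omega) (by omega)
  have e1 : n⁻¹ * (n * x * n⁻¹) * n = x := by group
  rwa [e1] at h1

theorem sg_left {a b : ℤ} (hab : a ≤ b) (hb : b < a + 8) :
    sg ρ (S.XZ a) * sg ρ (J S.XZ (a + 1) b) = sg ρ (J S.XZ a b) := by
  refine sg_mul ρ (X_le_J le_rfl hab) (J_mono (by omega) le_rfl) (fun g hg => ?_) (fun x hx hx' => ?_)
  · obtain ⟨x, hx, y, hy, e⟩ := S.zsys8.split_ll hab hb hg
    exact ⟨x, hx, y, hy, e⟩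
  · exact S.zsys8.inter a x hx (J_mono le_rfl (by omega) hx')

theorem sg_right {a b : ℤ} (hab : a ≤ b) (hb : b < a + 8) :
    sg ρ (S.XZ b) * sg ρ (J S.XZ a (b - 1)) = sg ρ (J S.XZ a b) := by
  refine sg_mul ρ (X_le_J hab le_rfl) (J_mono le_rfl (by omega)) (fun g hg => ?_) (fun x hx hx' => ?_)
  · obtain ⟨x, hx, y, hy, e⟩ := S.zsys8.split_rl hab hb hg
    exact ⟨x, hx, y, hy, e⟩
  · exact S.zsys8.inter' hx (J_mono (by omega) le_rfl hx')

/-- the alternating words -/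
def wd (S : Full σ G) : ℕ → G × G
  | 0 => (1, 1)
  | j + 1 => (S.n1 * (wd S j).2, S.n2 * (wd S j).1)

theorem alt_eq (j : ℕ) (hj : j ≤ 8) :
    RDat.alt (sg ρ (S.XZ 1) * ρ S.n1) (sg ρ (S.XZ 8) * ρ S.n2) j = sg ρ (J S.XZ 1 j) * ρ (wd S j).1 ∧
    RDat.alt (sg ρ (S.XZ 8) * ρ S.n2) (sg ρ (S.XZ 1) * ρ S.n1) j = sg ρ (J S.XZ (9 - j) 8) * ρ (wd S j).2 := by
  induction j with
  | zero =>
    have h1 : ∀ a b : ℤ, b < a → sg ρ (J S.XZ a b) = 1 := by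
      intro a b hab
      unfold sg
      rw [J_empty hab]
      have : (Set.toFinite ((⊥ : Subgroup G) : Set G)).toFinset = {1} := by
        ext x
        simp
      rw [this, Finset.sum_singleton, map_one]
    constructor
    · show 1 = _
      rw [h1 _ _ (by norm_num), one_mul]
      exact (map_one ρ).symm
    · show 1 = _
      rw [h1 _ _ (by norm_num), one_mul]
      exact (map_one ρ).symm
  | succ j ih =>
    obtain ⟨ih1, ih2⟩ := ih (by omega)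
    have hj' : (j : ℤ) + 1 ≤ 8 := by exact_mod_cast hj
    have hj0 : (0 : ℤ) ≤ j := Int.natCast_nonneg _
    constructor
    · show (sg ρ (S.XZ 1) * ρ S.n1) * RDat.alt (sg ρ (S.XZ 8) * ρ S.n2) (sg ρ (S.XZ 1) * ρ S.n1) j = _
      rw [ih2]
      have h1 := sg_conj ρ S.n1 (fun x => refl_J S S.n1_refl (a := 9 - j) (b := 8) x)
      have e1 : (10 : ℤ) - 8 = 1 + 1 := by norm_num
      have e2 : (10 : ℤ) - (9 - j) = j + 1 := by ring
      rw [e1, e2] at h1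
      have h2 := sg_left S ρ (a := 1) (b := j + 1) (by omega) (by omega)
      show _ = sg ρ (J S.XZ 1 ((j + 1 : ℕ) : ℤ)) * ρ (S.n1 * (wd S j).2)
      rw [Nat.cast_succ, map_mul, ← h2]
      calc sg ρ (S.XZ 1) * ρ S.n1 * (sg ρ (J S.XZ (9 - j) 8) * ρ (wd S j).2)
          = sg ρ (S.XZ 1) * (ρ S.n1 * sg ρ (J S.XZ (9 - j) 8)) * ρ (wd S j).2 := by simp only [mul_assoc]
        _ = _ := by rw [h1]; simp only [mul_assoc]
    · show (sg ρ (S.XZ 8) * ρ S.n2) * RDat.alt (sg ρ (S.XZ 1) * ρ S.n1) (sg ρ (S.XZ 8) * ρ S.n2) j = _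
      rw [ih1]
      have h1 := sg_conj ρ S.n2 (fun x => refl_J S S.n2_refl (a := 1) (b := j) x)
      have h2 := sg_right S ρ (a := 8 - j) (b := 8) (by omega) (by omega)
      show _ = sg ρ (J S.XZ (9 - ((j + 1 : ℕ) : ℤ)) 8) * ρ (S.n2 * (wd S j).1)
      rw [Nat.cast_succ, map_mul, show (9 : ℤ) - (j + 1) = 8 - j by ring, ← h2]
      calc sg ρ (S.XZ 8) * ρ S.n2 * (sg ρ (J S.XZ 1 j) * ρ (wd S j).1)
          = sg ρ (S.XZ 8) * (ρ S.n2 * sg ρ (J S.XZ 1 j)) * ρ (wd S j).1 := by simp only [mul_assoc]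
        _ = _ := by rw [h1]; simp only [mul_assoc]

end braid

/-- the rotation has order 8 -/
theorem rot8 : (S.n1 * S.n2) ^ 8 = 1 := by
  have ho : ∀ a t, (S.n1 * S.n2) * S.o a t * (S.n1 * S.n2)⁻¹ = S.o (a + 1) t := by
    intro a t
    have e1 : (S.n1 * S.n2) * S.o a t * (S.n1 * S.n2)⁻¹ = S.n1 * (S.n2 * S.o a t * S.n2⁻¹) * S.n1⁻¹ := by group
    rw [e1, S.n2_o, S.n1_o]
    congr 1; ring
  have he : ∀ a p u, (S.n1 * S.n2) * S.e a p u * (S.n1 * S.n2)⁻¹ = S.e (a + 1) p u := by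
    intro a p u
    have e1 : (S.n1 * S.n2) * S.e a p u * (S.n1 * S.n2)⁻¹ = S.n1 * (S.n2 * S.e a p u * S.n2⁻¹) * S.n1⁻¹ := by group
    rw [e1, S.n2_e, S.n1_e]
    congr 1; ring
  have hon : ∀ (n : ℕ) a t, (S.n1 * S.n2) ^ n * S.o a t * ((S.n1 * S.n2) ^ n)⁻¹ = S.o (a + n) t := by
    intro n
    induction n with
    | zero => intro a t; simp
    | succ n ih =>
      intro a t
      have e1 : (S.n1 * S.n2) ^ (n + 1) * S.o a t * ((S.n1 * S.n2) ^ (n + 1))⁻¹ =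
          (S.n1 * S.n2) * ((S.n1 * S.n2) ^ n * S.o a t * ((S.n1 * S.n2) ^ n)⁻¹) * (S.n1 * S.n2)⁻¹ := by
        rw [pow_succ' (S.n1 * S.n2) n, mul_inv_rev]
        simp only [mul_assoc]
      rw [e1, ih, ho, Nat.cast_succ, add_assoc]
  have hen : ∀ (n : ℕ) a p u, (S.n1 * S.n2) ^ n * S.e a p u * ((S.n1 * S.n2) ^ n)⁻¹ = S.e (a + n) p u := by
    intro n
    induction n with
    | zero => intro a p u; simp
    | succ n ih =>
      intro a p u
      have e1 : (S.n1 * S.n2) ^ (n + 1) * S.e a p u * ((S.n1 * S.n2) ^ (n + 1))⁻¹ =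
          (S.n1 * S.n2) * ((S.n1 * S.n2) ^ n * S.e a p u * ((S.n1 * S.n2) ^ n)⁻¹) * (S.n1 * S.n2)⁻¹ := by
        rw [pow_succ' (S.n1 * S.n2) n, mul_inv_rev]
        simp only [mul_assoc]
      rw [e1, ih, he, Nat.cast_succ, add_assoc]
  have h8 : ((8 : ℕ) : ZMod 8) = 0 := by decide
  have ho8 : ∀ a t, (S.n1 * S.n2) ^ 8 * S.o a t * ((S.n1 * S.n2) ^ 8)⁻¹ = S.o a t := by
    intro a t
    have := hon 8 a t
    rwa [h8, add_zero] at this
  have he8 : ∀ a p u, (S.n1 * S.n2) ^ 8 * S.e a p u * ((S.n1 * S.n2) ^ 8)⁻¹ = S.e a p u := by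
    intro a p u
    have := hen 8 a p u
    rwa [h8, add_zero] at this
  have hc : ∀ k : ℤ, ∀ x ∈ S.XZ k, (S.n1 * S.n2) ^ 8 * x * ((S.n1 * S.n2) ^ 8)⁻¹ = x := by
    intro k x hx
    obtain ⟨a, h | h⟩ := Int.even_or_odd' k
    · rw [h] at hx
      obtain ⟨p, u, rfl⟩ := (S.mem_XZ_even a x).1 hx
      exact he8 _ _ _
    · rw [h] at hx
      obtain ⟨t, rfl⟩ := (S.mem_XZ_odd a x).1 hx
      exact ho8 _ _
  have hT : (S.n1 * S.n2) ^ 8 ∈ S.T := by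
    apply mem_T_of
    · intro k x hx
      rw [hc k x hx]
      exact hx
    · intro k x hx
      have h1 := hc k x hx
      have h2 : ((S.n1 * S.n2) ^ 8)⁻¹ * x * (S.n1 * S.n2) ^ 8 = x := by
        conv_lhs => rw [← h1]
        group
      rw [h2]
      exact hx
  obtain ⟨c, d, hcd⟩ := S.mem_T.1 hT
  have hch : ∀ a, chE σ a c d = 1 := by
    intro a
    have h1 := he8 a 1 0
    rw [← hcd, S.h_e, mul_one, mul_zero] at h1
    exact Units.ext (S.injE a _ _ _ _ h1).1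
  have h0 : c = 1 := hch 0
  have h1 : d = 1 := hch 1
  rw [← hcd, h0, h1, S.h_one]

theorem wd8 : (wd S 8).1 = (wd S 8).2 := by
  have h1 : (wd S 8).1 = (S.n1 * S.n2) ^ 4 := by
    show S.n1 * (S.n2 * (S.n1 * (S.n2 * (S.n1 * (S.n2 * (S.n1 * (S.n2 * 1))))))) = _
    simp only [pow_succ, pow_zero, one_mul, mul_one, mul_assoc]
  have h2 : (wd S 8).2 = ((S.n1 * S.n2) ^ 4)⁻¹ := by
    have i1 : S.n1⁻¹ = S.n1 := inv_eq_of_mul_eq_one_left S.n1_sq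
    have i2 : S.n2⁻¹ = S.n2 := inv_eq_of_mul_eq_one_left S.n2_sq
    show S.n2 * (S.n1 * (S.n2 * (S.n1 * (S.n2 * (S.n1 * (S.n2 * (S.n1 * 1))))))) = _
    rw [← inv_pow, mul_inv_rev, i1, i2]
    simp only [pow_succ, pow_zero, one_mul, mul_one, mul_assoc]
  have h3 := rot8 S
  rw [h1, h2, eq_inv_iff_mul_eq_one, ← pow_add]
  exact h3

theorem braid [Finite G] {k W : Type*} [Field k] [AddCommGroup W] [Module k W] (ρ : G →* Module.End k W) :
    RDat.alt (sg ρ (S.XZ 1) * ρ S.n1) (sg ρ (S.XZ 8) * ρ S.n2) 8 =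
      RDat.alt (sg ρ (S.XZ 8) * ρ S.n2) (sg ρ (S.XZ 1) * ρ S.n1) 8 := by
  obtain ⟨h1, h2⟩ := alt_eq S ρ 8 le_rfl
  rw [h1, h2, wd8]
  congr 2

end abs

end Cfsg.Agent.H729.TU
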