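import Cfsg.Agent.H729.TU.Inst

/-!
# The standard `RDat` of `²F₄(q)` (helper729)

`rdat hK hφ`, `good hK hφ : Good hφ (rdat hK hφ)`, `braid hK hφ ρ : (rdat hK hφ).Braid ρ`.
-/

set_option autoImplicit false
set_option linter.unusedSectionVars false

namespace Cfsg.Agent.H729.TU

open Cfsg.Agent.KFacts.TwF4 Cfsg.Agent.SplitTwo Cfsg.Agent.SplitTwo.ZS Cfsg.Agent.TitsThree.RankTwoZ
open Cfsg.Agent.H415.TU

universe u

section abs

variable {F : Type*} [Field F] {σ : F →+* F} {G : Type u} [Group G] (S : Full σ G)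

theorem Up_eq : J S.XZ 1 8 = Subgroup.closure ({g | ∃ a : ZMod 8, a ∈ [0, 1, 2, 3] ∧ ∃ t, g = S.o a t} ∪
    {g | ∃ a : ZMod 8, a ∈ [1, 2, 3, 4] ∧ ∃ p u, g = S.e a p u}) := by
  apply le_antisymm
  · refine J_le fun k h1 h2 x hx => ?_
    obtain ⟨a, h | h⟩ := Int.even_or_odd' k
    · rw [h] at hx
      obtain ⟨p, u, rfl⟩ := (S.mem_XZ_even a x).1 hx
      refine Subgroup.subset_closure (Or.inr ⟨_, ?_, p, u, rfl⟩)
      have h3 : 1 ≤ a := by omega
      have h4 : a ≤ 4 := by omega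
      clear h hx h1 h2
      interval_cases a <;> decide
    · rw [h] at hx
      obtain ⟨t, rfl⟩ := (S.mem_XZ_odd a x).1 hx
      refine Subgroup.subset_closure (Or.inl ⟨_, ?_, t, rfl⟩)
      have h3 : 0 ≤ a := by omega
      have h4 : a ≤ 3 := by omega
      clear h hx h1 h2
      interval_cases a <;> decide
  · rw [Subgroup.closure_le]
    rintro g (⟨a, ha, t, rfl⟩ | ⟨a, ha, p, u, rfl⟩)
    · have key : ∀ a : ZMod 8, a ∈ [0, 1, 2, 3] → ∃ b : ℤ, (b : ZMod 8) = a ∧ 0 ≤ b ∧ b ≤ 3 := by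
        intro a ha
        simp only [List.mem_cons, List.not_mem_nil, or_false] at ha
        rcases ha with rfl | rfl | rfl | rfl
        · exact ⟨0, rfl, by norm_num, by norm_num⟩
        · exact ⟨1, rfl, by norm_num, by norm_num⟩
        · exact ⟨2, rfl, by norm_num, by norm_num⟩
        · exact ⟨3, rfl, by norm_num, by norm_num⟩
      obtain ⟨b, rfl, h1, h2⟩ := key a ha
      exact mem_J (S.o_mem b t) (by omega) (by omega)
    · have key : ∀ a : ZMod 8, a ∈ [1, 2, 3, 4] → ∃ b : ℤ, (b : ZMod 8) = a ∧ 1 ≤ b ∧ b ≤ 4 := by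
        intro a ha
        simp only [List.mem_cons, List.not_mem_nil, or_false] at ha
        rcases ha with rfl | rfl | rfl | rfl
        · exact ⟨1, rfl, by norm_num, by norm_num⟩
        · exact ⟨2, rfl, by norm_num, by norm_num⟩
        · exact ⟨3, rfl, by norm_num, by norm_num⟩
        · exact ⟨4, rfl, by norm_num, by norm_num⟩
      obtain ⟨b, rfl, h1, h2⟩ := key a ha
      exact mem_J (S.e_mem b p u) (by omega) (by omega)

theorem Um_eq : J S.XZ 9 16 = Subgroup.closure ({g | ∃ a : ZMod 8, a ∈ [4, 5, 6, 7] ∧ ∃ t, g = S.o a t} ∪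
    {g | ∃ a : ZMod 8, a ∈ [5, 6, 7, 0] ∧ ∃ p u, g = S.e a p u}) := by
  apply le_antisymm
  · refine J_le fun k h1 h2 x hx => ?_
    obtain ⟨a, h | h⟩ := Int.even_or_odd' k
    · rw [h] at hx
      obtain ⟨p, u, rfl⟩ := (S.mem_XZ_even a x).1 hx
      refine Subgroup.subset_closure (Or.inr ⟨_, ?_, p, u, rfl⟩)
      have h3 : 5 ≤ a := by omega
      have h4 : a ≤ 8 := by omega
      clear h hx h1 h2
      interval_cases a <;> decide
    · rw [h] at hx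
      obtain ⟨t, rfl⟩ := (S.mem_XZ_odd a x).1 hx
      refine Subgroup.subset_closure (Or.inl ⟨_, ?_, t, rfl⟩)
      have h3 : 4 ≤ a := by omega
      have h4 : a ≤ 7 := by omega
      clear h hx h1 h2
      interval_cases a <;> decide
  · rw [Subgroup.closure_le]
    rintro g (⟨a, ha, t, rfl⟩ | ⟨a, ha, p, u, rfl⟩)
    · have key : ∀ a : ZMod 8, a ∈ [4, 5, 6, 7] → ∃ b : ℤ, (b : ZMod 8) = a ∧ 4 ≤ b ∧ b ≤ 7 := by
        intro a ha
        simp only [List.mem_cons, List.not_mem_nil, or_false] at ha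
        rcases ha with rfl | rfl | rfl | rfl
        · exact ⟨4, rfl, by norm_num, by norm_num⟩
        · exact ⟨5, rfl, by norm_num, by norm_num⟩
        · exact ⟨6, rfl, by norm_num, by norm_num⟩
        · exact ⟨7, rfl, by norm_num, by norm_num⟩
      obtain ⟨b, rfl, h1, h2⟩ := key a ha
      exact mem_J (S.o_mem b t) (by omega) (by omega)
    · have key : ∀ a : ZMod 8, a ∈ [5, 6, 7, 0] → ∃ b : ℤ, (b : ZMod 8) = a ∧ 5 ≤ b ∧ b ≤ 8 := by
        intro a ha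
        simp only [List.mem_cons, List.not_mem_nil, or_false] at ha
        rcases ha with rfl | rfl | rfl | rfl
        · exact ⟨5, rfl, by norm_num, by norm_num⟩
        · exact ⟨6, rfl, by norm_num, by norm_num⟩
        · exact ⟨7, rfl, by norm_num, by norm_num⟩
        · exact ⟨8, rfl, by norm_num, by norm_num⟩
      obtain ⟨b, rfl, h1, h2⟩ := key a ha
      exact mem_J (S.e_mem b p u) (by omega) (by omega)

theorem card_XZ1 : Nat.card (S.XZ 1) = Nat.card F := by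
  have hm : ∀ t, S.o 0 t ∈ S.XZ 1 := fun t => (S.mem_XZ_odd 0 _).2 ⟨t, rfl⟩
  refine (Nat.card_congr (Equiv.ofBijective (fun t : F => (⟨S.o 0 t, hm t⟩ : S.XZ 1)) ⟨?_, ?_⟩)).symm
  · intro t s h
    exact S.injO 0 (congrArg Subtype.val h)
  · rintro ⟨g, hg⟩
    obtain ⟨t, rfl⟩ := (S.mem_XZ_odd 0 g).1 hg
    exact ⟨t, rfl⟩

theorem card_XZ8 : Nat.card (S.XZ 8) = Nat.card F ^ 2 := by
  have hm : ∀ p u, S.e 4 p u ∈ S.XZ 8 := fun p u => (S.mem_XZ_even 4 _).2 ⟨p, u, rfl⟩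
  rw [pow_two, ← Nat.card_prod]
  refine (Nat.card_congr (Equiv.ofBijective (fun t : F × F => (⟨S.e 4 t.1 t.2, hm _ _⟩ : S.XZ 8)) ⟨?_, ?_⟩)).symm
  · rintro ⟨t, s⟩ ⟨t', s'⟩ h
    obtain ⟨h1, h2⟩ := S.injE 4 _ _ _ _ (congrArg Subtype.val h)
    exact Prod.ext h1 h2
  · rintro ⟨g, hg⟩
    obtain ⟨p, u, rfl⟩ := (S.mem_XZ_even 4 g).1 hg
    exact ⟨(p, u), rfl⟩

/-- the torus is generated by the two rank one tori -/
theorem torus_split (c d : Fˣ) : ∃ x y : Fˣ, S.h c d = S.h x x * S.h (Units.map (σ : F →* F) y) y := by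
  refine ⟨d / (c / d * Units.map (σ : F →* F) (c / d)), c / d * Units.map (σ : F →* F) (c / d), ?_⟩
  rw [S.h_mul]
  generalize hz : c / d = z
  have hc : c = z * d := by rw [← hz, div_mul_cancel]
  rw [map_mul, map_map σ S.sq, hc]
  congr 1
  · generalize Units.map (σ : F →* F) z = w
    apply Units.ext
    push_cast
    field_simp
  · rw [div_mul_cancel]

theorem n1_inv (c : Fˣ) : S.n1 * S.h c c * S.n1⁻¹ = (S.h c c)⁻¹ := by
  rw [n1_h, S.h_inv]

theorem n2_inv (d : Fˣ) : S.n2 * S.h (Units.map (σ : F →* F) d) d * S.n2⁻¹ =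
    (S.h (Units.map (σ : F →* F) d) d)⁻¹ := by
  rw [S.n2_h, S.h_inv, map_map σ S.sq]
  congr 1
  rw [pow_two, ← div_div, div_self', one_div]

end abs

section inst

open Cfsg.Lie Cfsg.Agent.ChevalleyStructure.Elts
open Cfsg.Agent.ChevalleyStructure.TwF4.TwistedFix (Rln)
open Cfsg.Agent.ChevalleyStructure.TwF4.Torus Cfsg.Agent.ChevalleyStructure.TwF4.TwGen
open Cfsg.Agent.ChevalleyStructure.F4NTab
open Cfsg.Agent.KFacts.TwF4.Inst

theorem tab20 : ca 0 20 = 1 ∧ ca 1 20 = -2 ∧ ca 2 20 = 1 ∧ ca 3 20 = 0 := by decide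
theorem tab34 : ca 0 34 = 1 ∧ ca 1 34 = 1 ∧ ca 2 34 = -1 ∧ ca 3 34 = 0 := by decide

variable {K : Type u} [Field K] [Fintype K] [CharP K 2] {φ : K →+* K} {m : ℕ}

omit [Fintype K] [CharP K 2] in
theorem chi20 (c : Fin 4 → Kˣ) : chi c 20 = c 0 * (c 1 ^ 2)⁻¹ * c 2 := by
  obtain ⟨h0, h1, h2, h3⟩ := tab20
  rw [chi_def, h0, h1, h2, h3, zpow_one, zpow_one, zpow_zero, mul_one, zpow_neg]
  rfl

omit [Fintype K] [CharP K 2] in
theorem chi34 (c : Fin 4 → Kˣ) : chi c 34 = c 0 * c 1 * (c 2)⁻¹ := by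
  obtain ⟨h0, h1, h2, h3⟩ := tab34
  rw [chi_def, h0, h1, h2, h3, zpow_one, zpow_one, zpow_zero, mul_one, zpow_neg, zpow_one]

omit [Fintype K] in
theorem hG_eq {r : ℕ} (hr : r < 48) (t : Kˣ) : hG inF4 r (t : K) = T (hc r t) :=
  Units.ext (by rw [Cfsg.Agent.ChevalleyStructure.Elts.coe_hG, hMat_eq hr])

omit [Fintype K] [CharP K 2] in
theorem hc_one (r : ℕ) : hc r (1 : Kˣ) = 1 := by
  funext l
  exact one_zpow _

theorem phi_pow' (hφ : Rln φ (2 ^ m)) (s : Kˣ) : (Units.map (φ : K →* K) s) ^ 2 ^ m = s := by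
  rw [← map_pow, map_phi_pow hφ]

theorem h0_eq (hφ : Rln φ (2 ^ m)) (s : Kˣ) : h0 φ (s : K) = T (tc (2 ^ m) 1 (Units.map (φ : K →* K) s)) := by
  have h1 := hG_eq (K := K) (r := 33) (by norm_num) s
  have h2 := hG_eq (K := K) (r := 24) (by norm_num) (Units.map (φ : K →* K) s)
  have h3 := single_mul_prod (tc (2 ^ m) 1 (Units.map (φ : K →* K) s))
  have e0 : tc (2 ^ m) 1 (Units.map (φ : K →* K) s) 0 = s := phi_pow' hφ s
  have e1 : tc (2 ^ m) 1 (Units.map (φ : K →* K) s) 1 = 1 := one_pow _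
  have e2 : tc (2 ^ m) 1 (Units.map (φ : K →* K) s) 2 = 1 := rfl
  have e3 : tc (2 ^ m) 1 (Units.map (φ : K →* K) s) 3 = Units.map (φ : K →* K) s := rfl
  rw [e0, e1, e2, e3, hc_one, hc_one, mul_one, mul_one] at h3
  rw [h3, map_mul, ← h1, ← h2]
  rfl

theorem h1_eq (hφ : Rln φ (2 ^ m)) (s : Kˣ) : h1 φ (s : K) = T (tc (2 ^ m) (Units.map (φ : K →* K) s) 1) := by
  have h1' := hG_eq (K := K) (r := 27) (by norm_num) s
  have h2 := hG_eq (K := K) (r := 25) (by norm_num) (Units.map (φ : K →* K) s)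
  have h3 := single_mul_prod (tc (2 ^ m) (Units.map (φ : K →* K) s) 1)
  have e0 : tc (2 ^ m) (Units.map (φ : K →* K) s) 1 0 = 1 := one_pow _
  have e1 : tc (2 ^ m) (Units.map (φ : K →* K) s) 1 1 = s := phi_pow' hφ s
  have e2 : tc (2 ^ m) (Units.map (φ : K →* K) s) 1 2 = Units.map (φ : K →* K) s := rfl
  have e3 : tc (2 ^ m) (Units.map (φ : K →* K) s) 1 3 = 1 := rfl
  rw [e0, e1, e2, e3, hc_one, hc_one, one_mul, mul_one] at h3
  rw [h3, map_mul, ← h1', ← h2]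
  rfl

/-- the torus of `⟨X_1, X_9⟩` -/
theorem coe_h0 (hφ : Rln φ (2 ^ m)) (s : Kˣ) : (hT hφ s s : GL chevF4.Idx K) = h0 φ (s : K) := by
  rw [h0_eq hφ]
  refine hT_eq hφ ?_ ?_
  · show chi _ 20 = s
    rw [chi20]
    show ((Units.map (φ : K →* K) s) ^ 2 ^ m) * (((1 : Kˣ) ^ 2 ^ m) ^ 2)⁻¹ * 1 = s
    rw [phi_pow' hφ, one_pow, one_pow, inv_one, mul_one, mul_one]
  · show chi _ 34 = s
    rw [chi34]
    show ((Units.map (φ : K →* K) s) ^ 2 ^ m) * ((1 : Kˣ) ^ 2 ^ m) * (1 : Kˣ)⁻¹ = s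
    rw [phi_pow' hφ, one_pow, inv_one, mul_one, mul_one]

/-- the torus of `⟨X_8, X_16⟩` -/
theorem coe_h1 (hφ : Rln φ (2 ^ m)) (s : Kˣ) : (hT hφ (Units.map (φ : K →* K) (s * (Units.map (φ : K →* K) s)⁻¹))
    (s * (Units.map (φ : K →* K) s)⁻¹) : GL chevF4.Idx K) = h1 φ (s : K) := by
  rw [h1_eq hφ]
  refine hT_eq hφ ?_ ?_
  · show chi _ 20 = _
    rw [chi20]
    show ((1 : Kˣ) ^ 2 ^ m) * (((Units.map (φ : K →* K) s) ^ 2 ^ m) ^ 2)⁻¹ * Units.map (φ : K →* K) s = _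
    rw [phi_pow' hφ, one_pow, one_mul, map_mul, map_inv, map_map φ (Cfsg.Agent.Octagon.KPar.sq_phi hφ), mul_comm]
  · show chi _ 34 = _
    rw [chi34]
    show ((1 : Kˣ) ^ 2 ^ m) * ((Units.map (φ : K →* K) s) ^ 2 ^ m) * (Units.map (φ : K →* K) s)⁻¹ = _
    rw [phi_pow' hφ, one_pow, one_mul]

theorem exists_s (hφ : Rln φ (2 ^ m)) (d : Kˣ) : ∃ s : Kˣ, s * (Units.map (φ : K →* K) s)⁻¹ = d := by
  refine ⟨(d * Units.map (φ : K →* K) d)⁻¹, ?_⟩
  rw [map_inv, map_mul, map_map φ (Cfsg.Agent.Octagon.KPar.sq_phi hφ), inv_inv]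
  generalize Units.map (φ : K →* K) d = w
  apply Units.ext
  push_cast
  field_simp

theorem coe_h1' (hφ : Rln φ (2 ^ m)) (d : Kˣ) : ∃ s : Kˣ,
    (hT hφ (Units.map (φ : K →* K) d) d : GL chevF4.Idx K) = h1 φ (s : K) := by
  obtain ⟨s, rfl⟩ := exists_s hφ d
  exact ⟨s, coe_h1 hφ s⟩

variable (hK : Fintype.card K = 2 ^ (2 * m + 1)) (hφ : Rln φ (2 ^ m))

/-- **the standard `RDat` of `²F₄(q)`** -/
noncomputable def rdat : RDat ↥(twistedF4 K (2 ^ m)) := (exists_agood (full hK hφ)).choose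

theorem rdat_agood : AGood (full hK hφ) (rdat hK hφ) := (exists_agood (full hK hφ)).choose_spec

theorem good : Good hφ (rdat hK hφ) := by
  have A := rdat_agood hK hφ
  have hR : (full hK hφ).R.p = 2 := rfl
  have hX2 := Cfsg.Agent.KFacts.TwF4.Inv.two_X (full hK hφ) hR
  have hH : ∀ c d, hT hφ c d ∈ (rdat hK hφ).H := fun c d => by
    rw [A.H]
    exact h_mem (full hK hφ) c d
  have h16 : (full hK hφ).XZ 16 = (full hK hφ).XZ 0 := by
    have := (full hK hφ).zsys8.per 0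
    rw [← this]
    norm_num
  constructor
  · intro g
    rw [A.X0]
    exact (full hK hφ).mem_XZ_odd 0 g
  · intro g
    rw [A.X1]
    exact (full hK hφ).mem_XZ_even 4 g
  · intro g
    rw [A.Y0]
    exact (full hK hφ).mem_XZ_odd 4 g
  · intro g
    rw [A.Y1, h16]
    exact (full hK hφ).mem_XZ_even 0 g
  · rw [A.n0]
    rfl
  · rw [A.n1]
    rfl
  · rw [A.Up]
    exact Up_eq (full hK hφ)
  · rw [A.Um]
    exact Um_eq (full hK hφ)
  · intro u hu hu1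
    obtain ⟨c, hc⟩ := A.hh0 u hu hu1
    refine ⟨c, c.ne_zero, ?_⟩
    rw [hc]
    exact coe_h0 hφ c
  · intro u hu hu1
    obtain ⟨d, hd⟩ := A.hh1 u hu hu1
    obtain ⟨s, hs⟩ := coe_h1' hφ d
    refine ⟨s, s.ne_zero, ?_⟩
    rw [hd]
    exact hs
  · intro s hs
    exact ⟨_, hH (Units.mk0 s hs) (Units.mk0 s hs), coe_h0 hφ (Units.mk0 s hs)⟩
  · intro s hs
    exact ⟨_, hH _ _, coe_h1 hφ (Units.mk0 s hs)⟩
  · intro h hh
    rw [A.H] at hh
    obtain ⟨c, d, rfl⟩ := (full hK hφ).mem_T.1 hh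
    obtain ⟨x, y, hxy⟩ := torus_split (full hK hφ) c d
    obtain ⟨s, hs⟩ := coe_h1' hφ y
    refine ⟨x, s, x.ne_zero, s.ne_zero, ?_⟩
    rw [hxy, ← hs, ← coe_h0 hφ x]
    rfl
  · intro h s hs hh
    have h1 : h = (full hK hφ).h (Units.mk0 s hs) (Units.mk0 s hs) :=
      Subtype.ext (hh.trans (coe_h0 hφ (Units.mk0 s hs)).symm)
    rw [h1, A.n0]
    exact n1_inv (full hK hφ) _
  · intro h s hs hh
    have h1 : h = (full hK hφ).h (Units.map (φ : K →* K) (Units.mk0 s hs * (Units.map (φ : K →* K) (Units.mk0 s hs))⁻¹))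
        (Units.mk0 s hs * (Units.map (φ : K →* K) (Units.mk0 s hs))⁻¹) :=
      Subtype.ext (hh.trans (coe_h1 hφ (Units.mk0 s hs)).symm)
    rw [h1, A.n1]
    exact n2_inv (full hK hφ) _
  · rw [A.X0]
    exact card_XZ1 (full hK hφ)
  · rw [A.X1]
    exact card_XZ8 (full hK hφ)
  · rw [A.Up]
    exact Cfsg.Agent.KFacts.TwF4.Arc.isPGroup_J (full hK hφ).zsys8 hX2 8 1 8 (by norm_num) (by norm_num)
  · rw [A.Um]
    exact Cfsg.Agent.KFacts.TwF4.Arc.isPGroup_J (full hK hφ).zsys8 hX2 8 9 16 (by norm_num) (by norm_num)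

theorem braid_rdat {k W : Type*} [Field k] [AddCommGroup W] [Module k W]
    (ρ : ↥(twistedF4 K (2 ^ m)) →* Module.End k W) : (rdat hK hφ).Braid ρ :=
  (rdat_agood hK hφ).braid ρ

end inst

/-- **(O3)** -/
theorem exists_good {K : Type u} [Field K] [Fintype K] [CharP K 2] {m : ℕ} (_ : 1 ≤ m)
    (hK : Fintype.card K = 2 ^ (2 * m + 1)) {φ : K →+* K}
    (hφ : Cfsg.Agent.ChevalleyStructure.TwF4.TwistedFix.Rln φ (2 ^ m)) :
    ∃ R : RDat ↥(Cfsg.Lie.twistedF4 K (2 ^ m)), Good hφ R ∧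
      ∀ {k W : Type u} [Field k] [AddCommGroup W] [Module k W]
        (ρ : ↥(Cfsg.Lie.twistedF4 K (2 ^ m)) →* Module.End k W), R.Braid ρ :=
  ⟨rdat hK hφ, good hK hφ, fun ρ => braid_rdat hK hφ ρ⟩

end Cfsg.Agent.H729.TU
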