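import Cfsg.Agent.H415.TU.Twf
import Cfsg.Agent.H729.TU.Abs

/-!
# The interface `RDat` for `²F₄(q)` (helper729)

`exists_good`: the standard `RDat`, with the braid relation for all modules.
-/

set_option autoImplicit false
set_option linter.unusedSectionVars false

namespace Cfsg.Agent.H729.TU

open Cfsg.Agent.KFacts.TwF4 Cfsg.Agent.SplitTwo Cfsg.Agent.SplitTwo.ZS Cfsg.Agent.TitsThree.RankTwoZ
open Cfsg.Agent.H415.TU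

universe u

section abs

variable {F : Type*} [Field F] {σ : F →+* F} {G : Type u} [Group G] (S : Full σ G)

/-- the standard `RDat` over `S` -/
structure AGood (R : RDat G) : Prop where
  X0 : R.X 0 = S.XZ 1
  X1 : R.X 1 = S.XZ 8
  Y0 : R.Y 0 = S.XZ 9
  Y1 : R.Y 1 = S.XZ 16
  n0 : R.n 0 = S.n1
  n1 : R.n 1 = S.n2
  H : R.H = S.T
  Up : R.Up = J S.XZ 1 8
  Um : R.Um = J S.XZ 9 16
  hh0 : ∀ u ∈ R.X 0, u ≠ 1 → ∃ c, R.hh 0 u = S.h c c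
  hh1 : ∀ u ∈ R.X 1, u ≠ 1 → ∃ d, R.hh 1 u = S.h (Units.map (σ : F →* F) d) d

theorem XZ_add (k : ℤ) : S.XZ (k + 16) = S.XZ k := S.zsys8.per k

theorem J_shift16 (a b : ℤ) : J S.XZ (a + 16) (b + 16) = J S.XZ a b := by
  apply le_antisymm
  · refine J_le fun k h1 h2 => ?_
    have := XZ_add S (k - 16)
    rw [sub_add_cancel] at this
    rw [this]
    exact X_le_J (by omega) (by omega)
  · refine J_le fun k h1 h2 => ?_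
    rw [← XZ_add]
    exact X_le_J (by omega) (by omega)

/-- the choice of the rank one relations -/
structure Rk where
  y0 : G → G
  c0 : G → Fˣ
  x0 : G → G
  h0 : ∀ u, u ∈ S.XZ 1 → u ≠ 1 → y0 u ∈ S.XZ 9 ∧ x0 u ∈ S.XZ 1 ∧ u * S.n1 = y0 u * S.h (c0 u) (c0 u) * x0 u
  y1 : G → G
  d1 : G → Fˣ
  x1 : G → G
  h1 : ∀ u, u ∈ S.XZ 8 → u ≠ 1 → y1 u ∈ S.XZ 16 ∧ x1 u ∈ S.XZ 8 ∧
    u * S.n2 = y1 u * S.h (Units.map (σ : F →* F) (d1 u)) (d1 u) * x1 u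

theorem exists_rk : Nonempty (Rk S) := by
  classical
  have r0 : ∀ u : G, ∃ y : G, ∃ c : Fˣ, ∃ x : G, u ∈ S.XZ 1 → u ≠ 1 →
      y ∈ S.XZ 9 ∧ x ∈ S.XZ 1 ∧ u * S.n1 = y * S.h c c * x := by
    intro u
    by_cases h : u ∈ S.XZ 1 ∧ u ≠ 1
    · obtain ⟨y, hy, c, x, hx, e⟩ := rel0 S h.1 h.2
      exact ⟨y, c, x, fun _ _ => ⟨hy, hx, e⟩⟩
    · exact ⟨1, 1, 1, fun h1 h2 => (h ⟨h1, h2⟩).elim⟩
  have r1 : ∀ u : G, ∃ y : G, ∃ d : Fˣ, ∃ x : G, u ∈ S.XZ 8 → u ≠ 1 →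
      y ∈ S.XZ 16 ∧ x ∈ S.XZ 8 ∧ u * S.n2 = y * S.h (Units.map (σ : F →* F) d) d * x := by
    intro u
    by_cases h : u ∈ S.XZ 8 ∧ u ≠ 1
    · obtain ⟨y, hy, c, x, hx, e⟩ := rel1 S h.1 h.2
      exact ⟨y, c, x, fun _ _ => ⟨hy, hx, e⟩⟩
    · exact ⟨1, 1, 1, fun h1 h2 => (h ⟨h1, h2⟩).elim⟩
  choose y0 c0 x0 h0 using r0
  choose y1 d1 x1 h1 using r1
  exact ⟨⟨y0, c0, x0, h0, y1, d1, x1, h1⟩⟩

theorem H_comm : ∀ a ∈ S.T, ∀ b ∈ S.T, a * b = b * a := by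
  intro a ha b hb
  obtain ⟨c, d, rfl⟩ := S.mem_T.1 ha
  obtain ⟨c', d', rfl⟩ := S.mem_T.1 hb
  rw [S.h_mul, S.h_mul, mul_comm c, mul_comm d]

theorem n1_sq_mem : S.n1 * S.n1 ∈ S.T := by
  rw [S.n1_sq]
  exact one_mem _

theorem n2_sq_mem : S.n2 * S.n2 ∈ S.T := by
  rw [S.n2_sq]
  exact one_mem _

theorem h_mem (c d : Fˣ) : S.h c d ∈ S.T := S.mem_T.2 ⟨c, d, rfl⟩

theorem XV0 : ∀ x ∈ S.XZ 1, ∀ v ∈ J S.XZ 2 8, x⁻¹ * v * x ∈ J S.XZ 2 8 := by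
  intro x hx v hv
  have := S.zsys8.conj_X (a := 2) (b := 8) (k := 1) (by norm_num) (by norm_num) (by norm_num) (inv_mem hx) hv
  rwa [inv_inv] at this

theorem XV1 : ∀ x ∈ S.XZ 8, ∀ v ∈ J S.XZ 1 7, x⁻¹ * v * x ∈ J S.XZ 1 7 := by
  intro x hx v hv
  have := S.zsys8.conj_X (a := 1) (b := 7) (k := 8) (by norm_num) (by norm_num) (by norm_num) (inv_mem hx) hv
  rwa [inv_inv] at this

theorem nVm0 : ∀ v ∈ J S.XZ 10 16, S.n1 * v * S.n1⁻¹ ∈ J S.XZ 9 16 := by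
  intro v hv
  have h2 := S.n1_refl.mem_J hv (a' := -7) (b' := 0) (by norm_num) (by norm_num)
  rw [← J_shift16] at h2
  exact h2

theorem nVm1 : ∀ v ∈ J S.XZ 9 15, S.n2 * v * S.n2⁻¹ ∈ J S.XZ 9 16 := by
  intro v hv
  have h2 := S.n2_refl.mem_J hv (a' := -7) (b' := 0) (by norm_num) (by norm_num)
  rw [← J_shift16] at h2
  exact h2

theorem nY0 : ∀ y ∈ S.XZ 9, S.n1 * y * S.n1⁻¹ ∈ S.XZ 1 := fun y hy => S.n1_refl.mem' hy (by norm_num)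

theorem nY1 : ∀ y ∈ S.XZ 16, S.n2 * y * S.n2⁻¹ ∈ S.XZ 8 := by
  intro y hy
  have h2 := S.n2_refl.mem hy
  rw [← XZ_add] at h2
  exact h2

theorem fac_p0 : ∀ u ∈ J S.XZ 1 8, ∃ x ∈ S.XZ 1, ∃ v ∈ J S.XZ 2 8, u = x * v :=
  fun u hu => S.zsys8.split_ll (a := 1) (b := 8) (by norm_num) (by norm_num) hu

theorem fac_p1 : ∀ u ∈ J S.XZ 1 8, ∃ x ∈ S.XZ 8, ∃ v ∈ J S.XZ 1 7, u = x * v :=
  fun u hu => S.zsys8.split_rl (a := 1) (b := 8) (by norm_num) (by norm_num) hu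

theorem fac_m0 : ∀ u ∈ J S.XZ 9 16, ∃ v ∈ J S.XZ 10 16, ∃ y ∈ S.XZ 9, u = v * y :=
  fun u hu => S.zsys8.split_lr (a := 9) (b := 16) (by norm_num) (by norm_num) hu

theorem fac_m1 : ∀ u ∈ J S.XZ 9 16, ∃ v ∈ J S.XZ 9 15, ∃ y ∈ S.XZ 16, u = v * y :=
  fun u hu => S.zsys8.split_rr (a := 9) (b := 16) (by norm_num) (by norm_num) hu

theorem nVp0 : ∀ v ∈ J S.XZ 2 8, S.n1⁻¹ * v * S.n1 ∈ J S.XZ 2 8 :=
  fun v hv => S.n1_refl.mem_J_inv hv (by norm_num) (by norm_num)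

theorem nVp1 : ∀ v ∈ J S.XZ 1 7, S.n2⁻¹ * v * S.n2 ∈ J S.XZ 1 7 :=
  fun v hv => S.n2_refl.mem_J_inv hv (by norm_num) (by norm_num)

theorem fin2 {P : Fin 2 → Prop} (h0 : P 0) (h1 : P 1) : ∀ i, P i := Fin.forall_fin_two.2 ⟨h0, h1⟩

theorem gen_cl : Subgroup.closure ((J S.XZ 9 16 : Set G) ∪ (S.T : Set G) ∪ Set.range ![S.n1, S.n2]) = ⊤ := by
  refine gen_top S ?_ ?_ ?_
  · exact fun x hx => Subgroup.subset_closure (Or.inl (Or.inl hx))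
  · exact Subgroup.subset_closure (Or.inr ⟨0, rfl⟩)
  · exact Subgroup.subset_closure (Or.inr ⟨1, rfl⟩)

/-- the data -/
noncomputable def mkR (Q : Rk S) : RDat G where
  X := ![S.XZ 1, S.XZ 8]
  Y := ![S.XZ 9, S.XZ 16]
  n := ![S.n1, S.n2]
  H := S.T
  Up := J S.XZ 1 8
  Um := J S.XZ 9 16
  Vp := ![J S.XZ 2 8, J S.XZ 1 7]
  Vm := ![J S.XZ 10 16, J S.XZ 9 15]
  yy := ![Q.y0, Q.y1]
  hh := ![fun u => S.h (Q.c0 u) (Q.c0 u), fun u => S.h (Units.map (σ : F →* F) (Q.d1 u)) (Q.d1 u)]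
  xx := ![Q.x0, Q.x1]
  H_comm := H_comm S
  H_Up := fun h hh u hu => S.T_conj_J hh hu
  H_Um := fun h hh u hu => S.T_conj_J hh hu
  H_X := fin2 (fun h hh u hu => S.T_conj hh 1 hu) (fun h hh u hu => S.T_conj hh 8 hu)
  n_H := fin2 (fun h hh => refl_conj_T S S.n1_refl hh) (fun h hh => refl_conj_T S S.n2_refl hh)
  n_sq := fin2 (n1_sq_mem S) (n2_sq_mem S)
  X_le := fin2 (X_le_J (X := S.XZ) (k := 1) (a := 1) (b := 8) le_rfl (by norm_num))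
    (X_le_J (X := S.XZ) (k := 8) (a := 1) (b := 8) (by norm_num) le_rfl)
  Y_le := fin2 (X_le_J (X := S.XZ) (k := 9) (a := 9) (b := 16) le_rfl (by norm_num))
    (X_le_J (X := S.XZ) (k := 16) (a := 9) (b := 16) (by norm_num) le_rfl)
  Vp_le := fin2 (J_mono (X := S.XZ) (a := 2) (b := 8) (c := 1) (d := 8) (by norm_num) le_rfl)
    (J_mono (X := S.XZ) (a := 1) (b := 7) (c := 1) (d := 8) le_rfl (by norm_num))
  fac_p := fin2 (fac_p0 S) (fac_p1 S)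
  X_Vp := fin2 (XV0 S) (XV1 S)
  n_Vp := fin2 (nVp0 S) (nVp1 S)
  fac_m := fin2 (fac_m0 S) (fac_m1 S)
  n_Vm := fin2 (nVm0 S) (nVm1 S)
  n_Y := fin2 (nY0 S) (nY1 S)
  yy_mem := fin2 (fun u hu hu1 => (Q.h0 u hu hu1).1) (fun u hu hu1 => (Q.h1 u hu hu1).1)
  hh_mem := fin2 (fun u _ _ => h_mem S _ _) (fun u _ _ => h_mem S _ _)
  xx_mem := fin2 (fun u hu hu1 => (Q.h0 u hu hu1).2.1) (fun u hu hu1 => (Q.h1 u hu hu1).2.1)
  rel := fin2 (fun u hu hu1 => (Q.h0 u hu hu1).2.2) (fun u hu hu1 => (Q.h1 u hu hu1).2.2)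
  gen := gen_cl S

theorem agood_mkR (Q : Rk S) : AGood S (mkR S Q) where
  X0 := rfl
  X1 := rfl
  Y0 := rfl
  Y1 := rfl
  n0 := rfl
  n1 := rfl
  H := rfl
  Up := rfl
  Um := rfl
  hh0 := fun u _ _ => ⟨Q.c0 u, rfl⟩
  hh1 := fun u _ _ => ⟨Q.d1 u, rfl⟩

theorem exists_agood : ∃ R : RDat G, AGood S R := by
  obtain ⟨Q⟩ := exists_rk S
  exact ⟨mkR S Q, agood_mkR S Q⟩

variable {S}

theorem AGood.braid [Finite G] {R : RDat G} (h : AGood S R) {k W : Type*} [Field k] [AddCommGroup W] [Module k W]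
    (ρ : G →* Module.End k W) : R.Braid ρ := by
  have e : ∀ i, R.Top ρ i = sg ρ (R.X i) * ρ (R.n i) := by
    intro i
    unfold RDat.Top sg RDat.Xs
    rw [Finset.sum_mul]
    exact Finset.sum_congr rfl fun u _ => map_mul ρ _ _
  unfold RDat.Braid
  rw [e, e, h.X0, h.X1, h.n0, h.n1]
  exact TU.braid S ρ

end abs

end Cfsg.Agent.H729.TU
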